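import Groth.Agent.Lib.BddFin29.AffPts
import Groth.Agent.Lib.GaPts.Basic
import Groth.Prelude.Def_AlgGrp

/-!
# Finite subgroups of the additive group
-/

set_option autoImplicit false

universe u

open CategoryTheory CategoryTheory.Limits MonoidalCategory CartesianMonoidalCategory AlgebraicGeometry
open scoped TensorProduct MonObj
open Groth.Agent

namespace BddFin29

variable {K : Type u} [Field K]

local notation "base" => Spec (CommRingCat.of K)

/-- substitution of a monic nonconstant polynomial is integral -/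
theorem isIntegral_compRight {R : Type u} [CommRing R] {P : Polynomial R} (hP : P.Monic) (hd : 0 < P.natDegree) :
    (Polynomial.aeval P : Polynomial R →ₐ[R] Polynomial R).toRingHom.IsIntegral := by
  set ρ := (Polynomial.aeval P : Polynomial R →ₐ[R] Polynomial R).toRingHom
  have hC : ∀ a, ρ.IsIntegralElem (Polynomial.C a) := fun a => by
    simpa [ρ] using ρ.isIntegralElem_map (x := Polynomial.C a)
  have hX : ρ.IsIntegralElem (Polynomial.X : Polynomial R) := by
    refine ⟨P.map Polynomial.C - Polynomial.C Polynomial.X, ?_, ?_⟩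
    · exact (hP.map _).sub_of_left (by
        rw [Polynomial.degree_map_eq_of_injective Polynomial.C_injective]
        exact lt_of_le_of_lt Polynomial.degree_C_le (Polynomial.natDegree_pos_iff_degree_pos.1 hd))
    · rw [Polynomial.eval₂_sub, Polynomial.eval₂_map, Polynomial.eval₂_C]
      rw [show ρ.comp Polynomial.C = Polynomial.C from RingHom.ext fun a => by simp [ρ]]
      simp [ρ, Polynomial.eval₂_C_X]
  intro q
  induction q using Polynomial.induction_on' with
  | add p q hp hq => exact RingHom.IsIntegralElem.add ρ hp hq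
  | monomial n a =>
    rw [← Polynomial.C_mul_X_pow_eq_monomial]
    refine RingHom.IsIntegralElem.mul ρ (hC a) ?_
    clear * - hX
    induction n with
    | zero => rw [pow_zero]; exact ρ.isIntegralElem_one
    | succ n ih => rw [pow_succ]; exact RingHom.IsIntegralElem.mul ρ ih hX

/-- injective maps from a Dedekind domain to a domain are flat -/
theorem flat_of_injective {R S : Type u} [CommRing R] [IsDomain R] [IsDedekindDomain R] [CommRing S] [IsDomain S]
    (g : R →+* S) (hg : Function.Injective g) : g.Flat := by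
  algebraize [g]
  haveI : FaithfulSMul R S := (faithfulSMul_iff_algebraMap_injective _ _).2 hg
  show Module.Flat R S
  exact IsDedekindDomain.flat_iff_torsion_eq_bot.2 (Submodule.isTorsionFree_iff_torsion_eq_bot.1 inferInstance)

/-- a polynomial whose value at `x ⊗ 1 + 1 ⊗ x` vanishes is additive -/
theorem additive_of_vanish {B : Type u} [CommRing B] [Algebra K B] [Module.Finite K B] [Nontrivial B] (h : B)
    (hv : Polynomial.eval₂ (algebraMap K (B ⊗[K] B)) (h ⊗ₜ 1 + 1 ⊗ₜ h) (minpoly K h) = 0) :
    ∀ {R : Type u} [CommRing R] (f : K →+* R) (x y : R),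
      (minpoly K h).eval₂ f (x + y) = (minpoly K h).eval₂ f x + (minpoly K h).eval₂ f y := by
  classical
  set P := minpoly K h with hP
  have hint : _root_.IsIntegral K h := Algebra.IsIntegral.isIntegral h
  set N := P.natDegree with hN
  have hN0 : 0 < N := minpoly.natDegree_pos hint
  have hmon : P.Monic := minpoly.monic hint
  have hind : LinearIndependent K fun i : Fin N => h ^ (i : ℕ) := linearIndependent_pow h
  -- coordinates along the powers of `h`
  obtain ⟨π, hπ⟩ := LinearMap.exists_leftInverse_of_injective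
    (Fintype.linearCombination K fun i : Fin N => h ^ (i : ℕ))
    (LinearMap.ker_eq_bot.2 (hind.fintypeLinearCombination_injective))
  have hπp : ∀ i j : Fin N, π (h ^ (i : ℕ)) j = if i = j then 1 else 0 := by
    intro i j
    have := congrFun (LinearMap.congr_fun hπ (Pi.single i (1 : K))) j
    rw [LinearMap.comp_apply, Fintype.linearCombination_apply_single, one_smul] at this
    rw [this, LinearMap.id_apply, Pi.single_apply]
    simp only [eq_comm]
  -- the polynomial in one more variable
  set PB := P.map (algebraMap K B) with hPB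
  set D := Polynomial.taylor h PB - PB with hD
  let eR : B →ₐ[K] B ⊗[K] B := Algebra.TensorProduct.includeRight
  let ev : Polynomial B →+* B ⊗[K] B :=
    Polynomial.eval₂RingHom (Algebra.TensorProduct.includeLeftRingHom) (eR h)
  have hcomp : (Algebra.TensorProduct.includeLeftRingHom : B →+* B ⊗[K] B).comp (algebraMap K B) =
      algebraMap K (B ⊗[K] B) := RingHom.ext fun a => rfl
  have hevD : ev D = 0 := by
    have h1 : ev (Polynomial.taylor h PB) = 0 := by
      show Polynomial.eval₂ _ _ _ = (0 : B ⊗[K] B)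
      rw [Polynomial.taylor_apply, Polynomial.eval₂_comp, hPB, Polynomial.eval₂_map, hcomp]
      simpa [eR, add_comm] using hv
    have h2 : ev PB = 0 := by
      show Polynomial.eval₂ _ _ _ = (0 : B ⊗[K] B)
      rw [hPB, Polynomial.eval₂_map, hcomp]
      show Polynomial.aeval (eR h) P = 0
      rw [Polynomial.aeval_algHom_apply, hP, minpoly.aeval, map_zero]
    rw [hD, map_sub, h1, h2, sub_zero]
  have hDdeg : D.natDegree < N := by
    have hm : PB.Monic := hmon.map _
    have hd : PB.natDegree = N := hmon.natDegree_map _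
    by_cases h0 : D = 0
    · rw [h0, Polynomial.natDegree_zero]; exact hN0
    rw [Polynomial.natDegree_lt_iff_degree_lt h0, hD]
    have hlc : (Polynomial.taylor h PB).leadingCoeff = PB.leadingCoeff := Polynomial.leadingCoeff_taylor _ _
    have hdeg : (Polynomial.taylor h PB).degree = PB.degree := Polynomial.degree_taylor _ _
    refine (Polynomial.degree_sub_lt hdeg ?_ hlc).trans_le ?_
    · intro ht; rw [ht, Polynomial.degree_zero] at hdeg; exact hm.ne_zero (Polynomial.degree_eq_bot.1 hdeg.symm)
    · rw [hdeg, Polynomial.degree_eq_natDegree hm.ne_zero, hd]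
  have hD0 : D = 0 := by
    ext j
    rw [Polynomial.coeff_zero]
    by_cases hj : j < N
    · have h1 := congrArg ((TensorProduct.rid K B).toLinearMap ∘ₗ
        LinearMap.lTensor B ((LinearMap.proj (⟨j, hj⟩ : Fin N)).comp π)) hevD
      rw [map_zero] at h1
      simp only [ev, Polynomial.coe_eval₂RingHom, Polynomial.eval₂_eq_sum_range' _ hDdeg, eR,
        Algebra.TensorProduct.includeRight_apply, Algebra.TensorProduct.tmul_pow, one_pow,
        Algebra.TensorProduct.includeLeftRingHom_apply, Algebra.TensorProduct.tmul_mul_tmul,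
        _root_.one_mul, _root_.mul_one, map_sum, LinearMap.comp_apply, LinearMap.lTensor_tmul,
        LinearEquiv.coe_coe, TensorProduct.rid_tmul, LinearMap.proj_apply] at h1
      rw [Finset.sum_range] at h1
      simpa [hπp] using h1
    · exact Polynomial.coeff_eq_zero_of_natDegree_lt (lt_of_lt_of_le hDdeg (not_lt.1 hj))
  -- vanishing of the mixed coefficients
  have hT : ∀ j, Polynomial.aeval h (Polynomial.hasseDeriv j P) = algebraMap K B (P.coeff j) := by
    intro j
    have hmap : (Polynomial.hasseDeriv j PB) = (Polynomial.hasseDeriv j P).map (algebraMap K B) := by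
      ext m; simp [hPB, Polynomial.hasseDeriv_coeff]
    have := congrArg (fun q => Polynomial.coeff q j) hD0
    simp only [hD, Polynomial.coeff_sub, Polynomial.taylor_coeff, Polynomial.coeff_zero, sub_eq_zero] at this
    rwa [hmap, Polynomial.eval_map, hPB, Polynomial.coeff_map, ← Polynomial.aeval_def] at this
  have hc0 : P.coeff 0 = 0 := by
    have := hT 0
    rw [Polynomial.hasseDeriv_zero', hP, minpoly.aeval] at this
    exact (algebraMap K B).injective (this.symm.trans (map_zero _).symm)
  have hcoef : ∀ n j, 0 < j → j < n → P.coeff n * (n.choose j : K) = 0 := by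
    intro n j hj hjn
    set q := Polynomial.hasseDeriv j P - Polynomial.C (P.coeff j) with hq
    have hq0 : q = 0 := by
      by_contra hne
      have h1 : Polynomial.aeval h q = 0 := by rw [hq, map_sub, hT, Polynomial.aeval_C, sub_self]
      have h2 := Polynomial.natDegree_le_natDegree (minpoly.degree_le_of_ne_zero K h hne h1)
      have h3 : q.natDegree ≤ N - j := (Polynomial.natDegree_sub_le _ _).trans (max_le
        ((Polynomial.natDegree_hasseDeriv_le P j)) (by simp))
      rw [← hP, ← hN] at h2
      omega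
    have := congrArg (fun r => Polynomial.coeff r (n - j)) hq0
    simp only [hq, Polynomial.coeff_sub, Polynomial.hasseDeriv_coeff, Polynomial.coeff_C,
      Polynomial.coeff_zero, show n - j + j = n by omega, show n - j ≠ 0 by omega, if_false, sub_zero] at this
    rwa [mul_comm] at this
  intro R _ f x y
  simp only [Polynomial.eval₂_eq_sum_range, ← Finset.sum_add_distrib]
  refine Finset.sum_congr rfl fun n _ => ?_
  rcases Nat.eq_zero_or_pos n with rfl | hn
  · simp [hc0]
  rw [← mul_add, add_pow, Finset.mul_sum, ← Finset.sum_subset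
    (show ({0, n} : Finset ℕ) ⊆ Finset.range (n + 1) by
      intro m hm; simp at hm ⊢; omega), Finset.sum_pair hn.ne]
  · simp; ring
  · intro m hm hm'
    simp at hm hm'
    rw [← map_natCast f, mul_comm (x ^ m * y ^ (n - m)), ← _root_.mul_assoc, ← map_mul,
      hcoef n m (by omega) (by omega), map_zero, zero_mul]

theorem eq_of_comp_appTop_left {T T' : Over base} (g : T' ⟶ T) (v : Γ(T.left, ⊤)) (P : Polynomial K) :
    g.left.appTop.hom (P.eval₂ (str T).hom v) = P.eval₂ (str T').hom (g.left.appTop.hom v) := by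
  rw [Polynomial.hom_eval₂, ← str_comp g]; rfl

/-- `K[X]` is `𝔾_a` -/
theorem exists_coord : ∃ f : sp K (Polynomial K) ⟶ Red.Ga base, IsIso f ∧
    ∀ (T : Over base) (u : T ⟶ sp K (Polynomial K)), Red.gaFn (u ≫ f) = (spFn u).hom Polynomial.X := by
  refine ⟨GaPts.ptOfFn ((Scheme.ΓSpecIso (CommRingCat.of (Polynomial K))).inv Polynomial.X), ?_, fun T u => ?_⟩
  · refine isIso_of_bijective_points _ fun T => ⟨fun u v huv => ?_, fun x => ?_⟩
    · apply spFn_injective
      simp only
      ext : 1
      refine Polynomial.ringHom_ext (fun a => ?_) ?_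
      · exact (ConcreteCategory.congr_hom (spFn_alg u) a).trans (ConcreteCategory.congr_hom (spFn_alg v) a).symm
      · have h := congrArg Red.gaFn huv
        simp only [GaPts.gaFn_comp, GaPts.gaFn_ptOfFn] at h
        exact h
    · have hc : CommRingCat.ofHom (algebraMap K (Polynomial K)) ≫
          CommRingCat.ofHom (Polynomial.eval₂RingHom (str T).hom (Red.gaFn x)) = str T := by
        ext a; exact Polynomial.eval₂_C _ _
      refine ⟨spPt _ hc, ?_⟩
      apply GaPts.gaFn_injective
      simp only [GaPts.gaFn_comp, GaPts.gaFn_ptOfFn]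
      change (spFn (spPt _ hc)).hom Polynomial.X = _
      rw [spFn_spPt]; simp
  · rw [GaPts.gaFn_comp, GaPts.gaFn_ptOfFn]; rfl

set_option maxHeartbeats 1600000 in
/-- the minimal polynomial of the coordinate vanishes on the sum -/
theorem vanish_sum (H : Over base) [GrpObj H] [IsAffine H.left] (i : H ⟶ Red.Ga base) [IsMonHom i]
    [Algebra K Γ(H.left, ⊤)] (halg : str H = CommRingCat.ofHom (algebraMap K Γ(H.left, ⊤))) :
    Polynomial.eval₂ (algebraMap K (Γ(H.left, ⊤) ⊗[K] Γ(H.left, ⊤)))
      (Red.gaFn i ⊗ₜ 1 + 1 ⊗ₜ Red.gaFn i) (minpoly K (Red.gaFn i)) = 0 := by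
  let T := sp K (Γ(H.left, ⊤) ⊗[K] Γ(H.left, ⊤))
  let inc := (Scheme.ΓSpecIso (CommRingCat.of (Γ(H.left, ⊤) ⊗[K] Γ(H.left, ⊤)))).inv
  let eL : Γ(H.left, ⊤) →+* Γ(H.left, ⊤) ⊗[K] Γ(H.left, ⊤) := Algebra.TensorProduct.includeLeftRingHom
  let eR : Γ(H.left, ⊤) →+* Γ(H.left, ⊤) ⊗[K] Γ(H.left, ⊤) :=
    (Algebra.TensorProduct.includeRight : Γ(H.left, ⊤) →ₐ[K] Γ(H.left, ⊤) ⊗[K] Γ(H.left, ⊤)).toRingHom
  have cL : str H ≫ (CommRingCat.ofHom eL ≫ inc) = str T := by
    rw [str_sp, ← Category.assoc, halg]; rfl
  have cR : str H ≫ (CommRingCat.ofHom eR ≫ inc) = str T := by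
    rw [str_sp, ← Category.assoc, halg]; congr 1; ext a
    exact (Algebra.TensorProduct.includeRight :
      Γ(H.left, ⊤) →ₐ[K] Γ(H.left, ⊤) ⊗[K] Γ(H.left, ⊤)).commutes a
  obtain ⟨pL, hpL⟩ : ∃ p : T ⟶ H, p.left.appTop = CommRingCat.ofHom eL ≫ inc :=
    ⟨affPt _ cL, affPt_appTop _ _⟩
  obtain ⟨pR, hpR⟩ : ∃ p : T ⟶ H, p.left.appTop = CommRingCat.ofHom eR ≫ inc :=
    ⟨affPt _ cR, affPt_appTop _ _⟩
  have hval : Red.gaFn ((pL * pR) ≫ i) = inc.hom (Red.gaFn i ⊗ₜ 1 + 1 ⊗ₜ Red.gaFn i) := by
    have hm : ∀ {U : Over base} (a b : U ⟶ H), (a * b) ≫ i = (a ≫ i) * (b ≫ i) :=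
      fun a b => MonObj.mul_comp a b i
    rw [hm, GaPts.gaFn_mul, GaPts.gaFn_comp, GaPts.gaFn_comp, hpL, hpR, map_add]
    rfl
  have h0 : ((minpoly K (Red.gaFn i)).eval₂ (str T).hom (Red.gaFn ((pL * pR) ≫ i))) = 0 := by
    rw [GaPts.gaFn_comp, ← eq_of_comp_appTop_left, halg]
    show (pL * pR).left.appTop.hom (Polynomial.aeval (Red.gaFn i) _) = 0
    rw [minpoly.aeval, map_zero]
  rw [hval, str_sp, CommRingCat.hom_comp, ← Polynomial.hom_eval₂] at h0
  exact (ConcreteCategory.bijective_of_isIso inc).1 (h0.trans (map_zero _).symm)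

set_option maxHeartbeats 1600000 in
/-- finite subgroups of the additive group are kernels of additive polynomials -/
theorem ga_case (H : Over base) [GrpObj H] (i : H ⟶ Red.Ga base) [IsMonHom i] [Mono i] [IsFinite H.hom] :
    ∃ φ : Red.Ga base ⟶ Red.Ga base,
      IsMonHom φ ∧ AlgGrp.IsKernel i φ ∧ Flat φ.left ∧ Surjective φ.left := by
  obtain ⟨f, hf, hfX⟩ := exists_coord (K := K)
  haveI := hf
  obtain ⟨hH, hfin, hsurj⟩ := finite_mono_data (i ≫ inv f)
  letI : Algebra K Γ(H.left, ⊤) := (str H).hom.toAlgebra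
  haveI : Module.Finite K Γ(H.left, ⊤) := hfin
  have halg : str H = CommRingCat.ofHom (algebraMap K Γ(H.left, ⊤)) := rfl
  have hX : (spFn (i ≫ inv f)).hom Polynomial.X = Red.gaFn i := by
    rw [← hfX, Category.assoc, IsIso.inv_hom_id, Category.comp_id]
  have hhom : (spFn (i ≫ inv f)).hom = (Polynomial.aeval (Red.gaFn i)).toRingHom := by
    refine Polynomial.ringHom_ext (fun a => ?_) ?_
    · simpa [RingHom.algebraMap_toAlgebra] using ConcreteCategory.congr_hom (spFn_alg (i ≫ inv f)) a
    · simpa using hX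
  have hgen : Function.Surjective (Polynomial.aeval (Red.gaFn i) : Polynomial K →ₐ[K] Γ(H.left, ⊤)) := by
    intro b
    obtain ⟨q, hq⟩ := hsurj b
    exact ⟨q, ((RingHom.congr_fun hhom q).symm.trans hq)⟩
  set P := minpoly K (Red.gaFn i) with hP
  have hnt : Nontrivial Γ(H.left, ⊤) :=
    (η[H].left.appTop ≫ (Scheme.ΓSpecIso (CommRingCat.of K)).hom).hom.domain_nontrivial
  -- additivity
  have hadd : ∀ {R : Type u} [CommRing R] (g : K →+* R) (x y : R),
      P.eval₂ g (x + y) = P.eval₂ g x + P.eval₂ g y :=
    @additive_of_vanish K _ Γ(H.left, ⊤) _ _ _ hnt (Red.gaFn i) (vanish_sum H i halg)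
  -- the endomorphism
  set φ : Red.Ga base ⟶ Red.Ga base :=
    GaPts.ptOfFn (P.eval₂ (str (Red.Ga base)).hom (Red.gaFn (𝟙 (Red.Ga base)))) with hφ
  have hφv : ∀ (T : Over base) (x : T ⟶ Red.Ga base),
      Red.gaFn (x ≫ φ) = P.eval₂ (str T).hom (Red.gaFn x) := by
    intro T x
    rw [GaPts.gaFn_comp, hφ, GaPts.gaFn_ptOfFn, eq_of_comp_appTop_left, ← GaPts.gaFn_comp, Category.comp_id]
  have hP0 : ∀ {R : Type u} [CommRing R] (g : K →+* R), P.eval₂ g 0 = 0 := by
    intro R _ g
    have := hadd g (0 : R) 0
    rw [add_zero] at this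
    exact left_eq_add.1 this
  refine ⟨φ, ?_, ?_, ?_⟩
  · have hone : (1 : 𝟙_ (Over base) ⟶ Red.Ga base) = η := by
      rw [Hom.one_def, toUnit_unit]; exact Category.id_comp _
    have hmul : (fst (Red.Ga base) (Red.Ga base) * snd (Red.Ga base) (Red.Ga base)) = μ := by
      rw [Hom.mul_def, lift_fst_snd, Category.id_comp]
    refine { one_hom := ?_, mul_hom := ?_ }
    · rw [← hone]
      apply GaPts.gaFn_injective
      simp only [hφv, GaPts.gaFn_one, hP0]
    · rw [← hmul]
      apply GaPts.gaFn_injective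
      simp only
      rw [hφv, GaPts.gaFn_mul, hadd, MonObj.comp_mul, tensorHom_fst, tensorHom_snd, GaPts.gaFn_mul,
        hφv, hφv]
  · have hker : ∀ (T : Over base) (x : T ⟶ Red.Ga base),
        x ≫ φ = toUnit T ≫ η ↔ P.eval₂ (str T).hom (Red.gaFn x) = 0 := by
      intro T x
      rw [← GaPts.gaFn_eq_iff, hφv, ← Hom.one_def, GaPts.gaFn_one]
    have w : i ≫ φ = toUnit H ≫ η := (hker H i).2 (by
      show Polynomial.aeval (Red.gaFn i) P = 0
      rw [hP, minpoly.aeval])
    have hlift : ∀ (T : Over base) (x : T ⟶ Red.Ga base), x ≫ φ = toUnit T ≫ η →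
        ∃ y : T ⟶ H, y ≫ i = x := by
      intro T x hx
      have hz := (hker T x).1 hx
      have hk : RingHom.ker (Polynomial.aeval (Red.gaFn i)).toRingHom ≤
          RingHom.ker (Polynomial.eval₂RingHom (str T).hom (Red.gaFn x)) := by
        intro q hq
        obtain ⟨r, rfl⟩ := minpoly.dvd K (Red.gaFn i) (RingHom.mem_ker.1 hq)
        rw [RingHom.mem_ker, map_mul]
        simp only [Polynomial.coe_eval₂RingHom, ← hP, hz, zero_mul]
      let e : Polynomial K →+* Γ(T.left, ⊤) := Polynomial.eval₂RingHom (str T).hom (Red.gaFn x)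
      set L : Γ(H.left, ⊤) →+* Γ(T.left, ⊤) := RingHom.liftOfSurjective
        (Polynomial.aeval (Red.gaFn i) : Polynomial K →ₐ[K] Γ(H.left, ⊤)).toRingHom hgen
        (⟨e, hk⟩ : { g : Polynomial K →+* Γ(T.left, ⊤) //
          RingHom.ker (Polynomial.aeval (Red.gaFn i) : Polynomial K →ₐ[K] Γ(H.left, ⊤)).toRingHom ≤
            RingHom.ker g })
      have hL : ∀ q, L (Polynomial.aeval (Red.gaFn i) q) = q.eval₂ (str T).hom (Red.gaFn x) := fun q =>
        RingHom.liftOfRightInverse_comp_apply _ _ _ _ q
      have hc : str H ≫ CommRingCat.ofHom L = str T := by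
        ext a
        show L ((str H).hom a) = _
        have := hL (Polynomial.C a)
        rw [Polynomial.aeval_C, Polynomial.eval₂_C] at this
        exact this
      refine ⟨affPt _ hc, GaPts.gaFn_injective ?_⟩
      simp only
      rw [GaPts.gaFn_comp, affPt_appTop]
      have := hL Polynomial.X
      rw [Polynomial.aeval_X, Polynomial.eval₂_X] at this
      exact this
    refine IsPullback.of_isLimit' ⟨w⟩ (PullbackCone.IsLimit.mk w
      (fun s => (hlift s.pt s.fst (by rw [s.condition]; congr 1; exact toUnit_unique _ _)).choose)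
      (fun s => (hlift s.pt s.fst (by rw [s.condition]; congr 1; exact toUnit_unique _ _)).choose_spec)
      (fun s => toUnit_unique _ _) (fun s m h1 _ => (cancel_mono i).1 (h1.trans
        (hlift s.pt s.fst (by rw [s.condition]; congr 1; exact toUnit_unique _ _)).choose_spec.symm)))
  · -- flat and surjective
    have hPd : 0 < P.natDegree := minpoly.natDegree_pos (Algebra.IsIntegral.isIntegral _)
    have hPm : P.Monic := minpoly.monic (Algebra.IsIntegral.isIntegral _)
    set ρ : Polynomial K →+* Polynomial K := (Polynomial.aeval P).toRingHom with hρ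
    have hc : CommRingCat.ofHom (algebraMap K (Polynomial K)) ≫
        (CommRingCat.ofHom ρ ≫ (Scheme.ΓSpecIso (CommRingCat.of (Polynomial K))).inv) =
        str (sp K (Polynomial K)) := by
      rw [str_sp, ← Category.assoc]; congr 1; ext a; simp [ρ]
    set ψ := spPt (A := Polynomial K) (T := sp K (Polynomial K)) _ hc with hψ
    have hsq : f ≫ φ = ψ ≫ f := by
      apply GaPts.gaFn_injective
      simp only
      rw [hφv, hfX, hψ, spFn_spPt, show Red.gaFn f = (spFn (𝟙 (sp K (Polynomial K)))).hom Polynomial.X by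
        rw [← hfX, Category.id_comp]]
      rw [str_sp, CommRingCat.hom_comp]
      have : (spFn (𝟙 (sp K (Polynomial K)))) = (Scheme.ΓSpecIso (CommRingCat.of (Polynomial K))).inv := by
        simp [spFn]
      rw [this, ← Polynomial.hom_eval₂]
      simp only [CommRingCat.hom_comp, CommRingCat.hom_ofHom, RingHom.comp_apply]
      exact congrArg _ (by simp [ρ, Polynomial.eval₂_C_X])
    have hψl : ψ.left = Spec.map (CommRingCat.ofHom ρ) := by
      apply ext_of_isAffine
      have := spFn_spPt (A := Polynomial K) (T := sp K (Polynomial K)) _ hc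
      rw [← hψ, spFn, Scheme.ΓSpecIso_inv_naturality] at this
      exact (cancel_epi _).1 this
    have hinj : Function.Injective ρ := by
      rw [injective_iff_map_eq_zero]
      intro q hq
      have hq' : q.comp P = 0 := by simpa [ρ, Polynomial.comp, Polynomial.aeval_def] using hq
      rcases Polynomial.comp_eq_zero_iff.1 hq' with h | ⟨-, h⟩
      · exact h
      · have := congrArg Polynomial.natDegree h
        simp at this
        omega
    have hint : ρ.IsIntegral := isIntegral_compRight hPm hPd
    have hlflat : ρ.Flat := flat_of_injective ρ hinj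
    haveI : Flat ψ.left := by rw [hψl]; exact (HasRingHomProperty.Spec_iff (P := @Flat)).2 hlflat
    haveI : Surjective ψ.left := by
      rw [hψl]; exact ⟨(hint.comap_surjective hinj)⟩
    have hl : φ.left = (inv f).left ≫ ψ.left ≫ f.left := by
      rw [← Over.comp_left, ← Over.comp_left, ← hsq, IsIso.inv_hom_id_assoc]
    haveI : IsIso f.left := inferInstanceAs (IsIso ((Over.forget _).map f))
    haveI : IsIso (inv f).left := inferInstanceAs (IsIso ((Over.forget _).map (inv f)))
    rw [hl]
    exact ⟨inferInstance, inferInstance⟩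

end BddFin29
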