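import Mathlib

/-!
# Points of affine schemes over a field
-/

set_option autoImplicit false

universe u

open CategoryTheory AlgebraicGeometry

namespace BddFin29

variable {K : Type u} [Field K]

/-- the structure map on global functions -/
noncomputable def str (T : Over (Spec (CommRingCat.of K))) : CommRingCat.of K ⟶ Γ(T.left, ⊤) :=
  (Scheme.ΓSpecIso (CommRingCat.of K)).inv ≫ T.hom.appTop

variable {T T' X : Over (Spec (CommRingCat.of K))}

theorem str_comp (g : T' ⟶ T) : str T ≫ g.left.appTop = str T' := by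
  rw [str, str, Category.assoc, ← Scheme.Hom.comp_appTop, Over.w]

theorem ext_appTop [IsAffine X.left] {u v : T ⟶ X} (h : u.left.appTop = v.left.appTop) : u = v :=
  Over.OverMorphism.ext (ext_of_isAffine h)

theorem isoSpec_inv_appTop' (Y : Scheme.{u}) [IsAffine Y] :
    Y.isoSpec.inv.appTop ≫ (Scheme.ΓSpecIso Γ(Y, ⊤)).hom = 𝟙 _ := by
  have h : (Y.isoSpec.hom ≫ Y.isoSpec.inv).appTop = 𝟙 _ := by rw [Iso.hom_inv_id]; simp
  rw [Scheme.Hom.comp_appTop, Scheme.isoSpec_hom, Scheme.toSpecΓ_appTop] at h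
  exact h

/-- the point of an affine scheme given by a map on global functions -/
noncomputable def affPt [IsAffine X.left] (f : Γ(X.left, ⊤) ⟶ Γ(T.left, ⊤)) (hf : str X ≫ f = str T) :
    T ⟶ X :=
  Over.homMk (T.left.toSpecΓ ≫ Spec.map f ≫ X.left.isoSpec.inv) (by
    apply ext_of_isAffine
    rw [str, str, Category.assoc] at hf
    have hf' := (cancel_epi _).1 hf
    simp only [Scheme.Hom.comp_appTop, Scheme.toSpecΓ_appTop, Category.assoc, Scheme.ΓSpecIso_naturality]
    rw [← hf', reassoc_of% (isoSpec_inv_appTop' X.left)])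

theorem affPt_appTop [IsAffine X.left] (f : Γ(X.left, ⊤) ⟶ Γ(T.left, ⊤)) (hf : str X ≫ f = str T) :
    (affPt f hf).left.appTop = f := by
  show (T.left.toSpecΓ ≫ Spec.map f ≫ X.left.isoSpec.inv).appTop = f
  simp only [Scheme.Hom.comp_appTop, Scheme.toSpecΓ_appTop, Category.assoc, Scheme.ΓSpecIso_naturality]
  rw [reassoc_of% (isoSpec_inv_appTop' X.left)]

/-- the spectrum of a `K`-algebra -/
noncomputable abbrev sp (K : Type u) [Field K] (A : Type u) [CommRing A] [Algebra K A] :
    Over (Spec (CommRingCat.of K)) :=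
  Over.mk (Spec.map (CommRingCat.ofHom (algebraMap K A)))

variable {A : Type u} [CommRing A] [Algebra K A]

instance : IsAffine (sp K A).left := inferInstanceAs (IsAffine (Spec _))

instance : IsSeparated (sp K A).hom :=
  inferInstanceAs (IsSeparated (Spec.map (CommRingCat.ofHom (algebraMap K A))))

theorem str_sp : str (sp K A) = CommRingCat.ofHom (algebraMap K A) ≫ (Scheme.ΓSpecIso (CommRingCat.of A)).inv :=
  (Scheme.ΓSpecIso_inv_naturality (CommRingCat.ofHom (algebraMap K A))).symm

/-- the ring map of a point of `sp K A` -/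
noncomputable def spFn (u : T ⟶ sp K A) : CommRingCat.of A ⟶ Γ(T.left, ⊤) :=
  (Scheme.ΓSpecIso (CommRingCat.of A)).inv ≫ u.left.appTop

theorem spFn_alg (u : T ⟶ sp K A) : CommRingCat.ofHom (algebraMap K A) ≫ spFn u = str T := by
  rw [spFn, ← Category.assoc, ← str_sp, str_comp]

theorem spFn_comp (g : T' ⟶ T) (u : T ⟶ sp K A) : spFn (g ≫ u) = spFn u ≫ g.left.appTop := by
  simp [spFn]

theorem spFn_injective : Function.Injective (fun u : T ⟶ sp K A => spFn u) := fun _ _ h =>
  ext_appTop ((cancel_epi _).1 h)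

/-- the point given by a ring map -/
noncomputable def spPt (ρ : CommRingCat.of A ⟶ Γ(T.left, ⊤))
    (h : CommRingCat.ofHom (algebraMap K A) ≫ ρ = str T) : T ⟶ sp K A :=
  affPt ((Scheme.ΓSpecIso (CommRingCat.of A)).hom ≫ ρ) (by simp [str_sp, h])

theorem spFn_spPt (ρ : CommRingCat.of A ⟶ Γ(T.left, ⊤))
    (h : CommRingCat.ofHom (algebraMap K A) ≫ ρ = str T) : spFn (spPt ρ h) = ρ := by
  show (Scheme.ΓSpecIso (CommRingCat.of A)).inv ≫ (spPt ρ h).left.appTop = ρ
  rw [spPt]
  erw [affPt_appTop]
  simp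

theorem isIso_of_bijective_points {G X : Over (Spec (CommRingCat.of K))} (f : X ⟶ G)
    (h : ∀ T, Function.Bijective (fun u : T ⟶ X => u ≫ f)) : IsIso f := by
  obtain ⟨g, hg⟩ := (h G).2 (𝟙 G)
  exact ⟨g, (h X).1 (by simp only at hg ⊢; rw [Category.assoc, hg]; simp), hg⟩

/-- finiteness and closed immersion data of a finite monomorphism into an affine scheme -/
theorem finite_mono_data {H : Over (Spec (CommRingCat.of K))} [IsFinite H.hom]
    (i : H ⟶ sp K A) [Mono i] :
    IsAffine H.left ∧ (str H).hom.Finite ∧ Function.Surjective (spFn i) := by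
  have hH : IsAffine H.left := isAffine_of_isAffineHom H.hom
  haveI : IsFinite (i.left ≫ (sp K A).hom) := by rw [Over.w]; infer_instance
  haveI : IsFinite i.left := IsFinite.of_comp i.left (sp K A).hom
  have hci : IsClosedImmersion i.left := (IsClosedImmersion.iff_isFinite_and_mono i.left).2 ⟨inferInstance, inferInstance⟩
  refine ⟨hH, ?_, ?_⟩
  · have h1 := ((HasAffineProperty.iff_of_isAffine (P := @IsFinite)).1 (inferInstance : IsFinite H.hom)).2
    exact RingHom.Finite.comp h1 (RingHom.Finite.of_surjective _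
      (ConcreteCategory.bijective_of_isIso (Scheme.ΓSpecIso (CommRingCat.of K)).inv).2)
  · have h1 := ((HasAffineProperty.iff_of_isAffine (P := @IsClosedImmersion)).1 hci).2
    exact h1.comp (ConcreteCategory.bijective_of_isIso (Scheme.ΓSpecIso (CommRingCat.of A)).inv).2

end BddFin29
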