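import Groth.Agent.Lib.BddFin29.Ga
import Groth.Prelude.Def_GmPts

/-!
# Finite subgroups of the multiplicative group
-/

set_option autoImplicit false

universe u

open CategoryTheory CategoryTheory.Limits MonoidalCategory CartesianMonoidalCategory AlgebraicGeometry
open scoped TensorProduct MonObj

namespace BddFin29

variable {K : Type u} [Field K]

local notation "base" => Spec (CommRingCat.of K)

/-- the coordinate ring `K[X, X⁻¹]` -/
abbrev Lz (K : Type u) [Field K] : Type u := Localization.Away (Polynomial.X : Polynomial K)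

instance : IsDomain (Lz K) :=
  IsLocalization.isDomain_localization (powers_le_nonZeroDivisors_of_noZeroDivisors Polynomial.X_ne_zero)

/-- if the minimal polynomial of a unit vanishes on `h ⊗ h` then it is `X ^ N - 1` -/
theorem pow_eq_one_of_vanish {B : Type u} [CommRing B] [Algebra K B] [Module.Finite K B] [Nontrivial B] (h : B)
    (hu : IsUnit h)
    (hv : Polynomial.eval₂ (algebraMap K (B ⊗[K] B)) (h ⊗ₜ h) (minpoly K h) = 0) :
    h ^ (minpoly K h).natDegree = 1 := by
  classical
  set P := minpoly K h with hP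
  have hint : _root_.IsIntegral K h := Algebra.IsIntegral.isIntegral h
  set N := P.natDegree with hN
  have hmon : P.Monic := minpoly.monic hint
  have hind : LinearIndependent K fun i : Fin N => h ^ (i : ℕ) := linearIndependent_pow h
  obtain ⟨π, hπ⟩ := LinearMap.exists_leftInverse_of_injective
    (Fintype.linearCombination K fun i : Fin N => h ^ (i : ℕ))
    (LinearMap.ker_eq_bot.2 (hind.fintypeLinearCombination_injective))
  have hπp : ∀ i j : Fin N, π (h ^ (i : ℕ)) j = if i = j then 1 else 0 := by
    intro i j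
    have := congrFun (LinearMap.congr_fun hπ (Pi.single i (1 : K))) j
    rw [LinearMap.comp_apply, Fintype.linearCombination_apply_single, one_smul] at this
    rw [this, LinearMap.id_apply, Pi.single_apply]
    simp only [eq_comm]
  have hPh : h ^ N = - ∑ n : Fin N, P.coeff n • h ^ (n : ℕ) := by
    have h0 : Polynomial.aeval h P = 0 := minpoly.aeval K h
    rw [Polynomial.aeval_eq_sum_range, Finset.sum_range_succ, ← hN, hN, hmon.coeff_natDegree, one_smul,
      ← hN, Finset.sum_range] at h0
    exact eq_neg_of_add_eq_zero_right h0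
  have hc : ∀ i : Fin N, P.coeff i • h ^ (i : ℕ) = P.coeff i • h ^ N := by
    intro i
    have h1 := congrArg ((TensorProduct.lid K B).toLinearMap ∘ₗ
      LinearMap.rTensor B ((LinearMap.proj i).comp π)) hv
    rw [map_zero] at h1
    simp only [Polynomial.eval₂_eq_sum_range, Algebra.TensorProduct.tmul_pow, ← Algebra.smul_def,
      map_sum, map_smul, LinearMap.comp_apply, LinearMap.rTensor_tmul, LinearEquiv.coe_coe,
      TensorProduct.lid_tmul, LinearMap.proj_apply] at h1
    rw [← hN, Finset.sum_range_succ, Finset.sum_range] at h1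
    have hNi : π (h ^ N) i = - P.coeff i := by
      rw [hPh]; simp [map_neg, map_sum, hπp]
    rw [show P.coeff N = 1 from hmon.coeff_natDegree, hNi] at h1
    simp [hπp] at h1
    rwa [← sub_eq_add_neg, sub_eq_zero] at h1
  obtain ⟨i, hi⟩ : ∃ i : Fin N, P.coeff i ≠ 0 := by
    by_contra! hall
    simp [hall] at hPh
    exact not_isUnit_zero (hPh ▸ hu.pow N)
  have h1 : h ^ (N - (i : ℕ)) = 1 := by
    have := (smul_right_injective B hi) (hc i)
    rw [show h ^ N = h ^ (i : ℕ) * h ^ (N - (i : ℕ)) by rw [← pow_add]; congr 1; omega] at this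
    exact (hu.pow (i : ℕ)).mul_left_cancel (this.symm.trans (_root_.mul_one _).symm)
  by_cases hi0 : (i : ℕ) = 0
  · simpa [hi0] using h1
  exfalso
  have hpos : 0 < N - (i : ℕ) := by omega
  have h2 : Polynomial.aeval h (Polynomial.X ^ (N - (i : ℕ)) - 1 : Polynomial K) = 0 := by simp [h1]
  have h3 := Polynomial.natDegree_le_natDegree (minpoly.degree_le_of_ne_zero K h
    (by simpa using (Polynomial.monic_X_pow_sub_C (R := K) 1 hpos.ne').ne_zero) h2)
  rw [show (1 : Polynomial K) = Polynomial.C 1 by simp, Polynomial.natDegree_X_pow_sub_C, ← hP, ← hN] at h3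
  omega

/-- a map out of a localization is flat if its restriction is -/
theorem flat_of_flat_comp {R L S : Type u} [CommRing R] [CommRing L] [Algebra R L] (M : Submonoid R)
    [IsLocalization M L] [CommRing S] (g : L →+* S) (hg : (g.comp (algebraMap R L)).Flat) : g.Flat := by
  algebraize [g, g.comp (algebraMap R L)]
  exact (Module.flat_iff_of_isLocalization L M S).2 (inferInstanceAs (Module.Flat R S))

/-- `K[X, X⁻¹]` is `𝔾_m` -/
theorem exists_coord_gm : ∃ f : sp K (Lz K) ⟶ Red.Gm base, IsIso f ∧
    ∀ (T : Over base) (u : T ⟶ sp K (Lz K)),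
      Red.gmFn (u ≫ f) = (spFn u).hom (algebraMap (Polynomial K) (Lz K) Polynomial.X) := by
  have hX : IsUnit ((Scheme.ΓSpecIso (CommRingCat.of (Lz K))).inv
      (algebraMap (Polynomial K) (Lz K) Polynomial.X)) :=
    (IsLocalization.Away.algebraMap_isUnit (S := Lz K) (Polynomial.X : Polynomial K)).map
      (Scheme.ΓSpecIso (CommRingCat.of (Lz K))).inv.hom
  refine ⟨GmPts.ptOfUnit hX.unit, ?_, fun T u => ?_⟩
  · refine isIso_of_bijective_points _ fun T => ⟨fun u v huv => ?_, fun x => ?_⟩
    · apply spFn_injective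
      simp only
      ext : 1
      refine IsLocalization.ringHom_ext (Submonoid.powers (Polynomial.X : Polynomial K)) ?_
      refine Polynomial.ringHom_ext (fun a => ?_) ?_
      · exact (ConcreteCategory.congr_hom (spFn_alg u) a).trans (ConcreteCategory.congr_hom (spFn_alg v) a).symm
      · have h := congrArg Red.gmFn huv
        simp only [GmPts.gmFn_comp, GmPts.gmFn_ptOfUnit, IsUnit.unit_spec] at h
        exact h
    · have hxu : IsUnit (Polynomial.eval₂RingHom (str T).hom (Red.gmFn x) Polynomial.X) := by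
        simpa using GmPts.isUnit_gmFn x
      have hc : CommRingCat.ofHom (algebraMap K (Lz K)) ≫
          CommRingCat.ofHom (IsLocalization.Away.lift (S := Lz K) (Polynomial.X : Polynomial K) hxu) = str T := by
        ext a
        show IsLocalization.Away.lift _ hxu (algebraMap K (Lz K) a) = _
        rw [IsScalarTower.algebraMap_apply K (Polynomial K) (Lz K), IsLocalization.Away.lift_eq]
        exact Polynomial.eval₂_C _ _
      refine ⟨spPt _ hc, ?_⟩
      apply GmPts.gmFn_injective
      simp only [GmPts.gmFn_comp, GmPts.gmFn_ptOfUnit, IsUnit.unit_spec]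
      change (spFn (spPt _ hc)).hom (algebraMap (Polynomial K) (Lz K) Polynomial.X) = _
      rw [spFn_spPt]
      show IsLocalization.Away.lift _ hxu _ = _
      rw [IsLocalization.Away.lift_eq]; simp
  · rw [GmPts.gmFn_comp, GmPts.gmFn_ptOfUnit, IsUnit.unit_spec]; rfl

set_option maxHeartbeats 1600000 in
/-- the minimal polynomial of the coordinate vanishes on the product -/
theorem vanish_prod (H : Over base) [GrpObj H] [IsAffine H.left] (i : H ⟶ Red.Gm base) [IsMonHom i]
    [Algebra K Γ(H.left, ⊤)] (halg : str H = CommRingCat.ofHom (algebraMap K Γ(H.left, ⊤))) :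
    Polynomial.eval₂ (algebraMap K (Γ(H.left, ⊤) ⊗[K] Γ(H.left, ⊤)))
      (Red.gmFn i ⊗ₜ Red.gmFn i) (minpoly K (Red.gmFn i)) = 0 := by
  let T := sp K (Γ(H.left, ⊤) ⊗[K] Γ(H.left, ⊤))
  let inc := (Scheme.ΓSpecIso (CommRingCat.of (Γ(H.left, ⊤) ⊗[K] Γ(H.left, ⊤)))).inv
  let eL : Γ(H.left, ⊤) →+* Γ(H.left, ⊤) ⊗[K] Γ(H.left, ⊤) := Algebra.TensorProduct.includeLeftRingHom
  let eR : Γ(H.left, ⊤) →+* Γ(H.left, ⊤) ⊗[K] Γ(H.left, ⊤) :=
    (Algebra.TensorProduct.includeRight : Γ(H.left, ⊤) →ₐ[K] Γ(H.left, ⊤) ⊗[K] Γ(H.left, ⊤)).toRingHom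
  have cL : str H ≫ (CommRingCat.ofHom eL ≫ inc) = str T := by
    rw [str_sp, ← Category.assoc, halg]; rfl
  have cR : str H ≫ (CommRingCat.ofHom eR ≫ inc) = str T := by
    rw [str_sp, ← Category.assoc, halg]; congr 1; ext a
    exact (Algebra.TensorProduct.includeRight :
      Γ(H.left, ⊤) →ₐ[K] Γ(H.left, ⊤) ⊗[K] Γ(H.left, ⊤)).commutes a
  obtain ⟨pL, hpL⟩ : ∃ p : T ⟶ H, p.left.appTop = CommRingCat.ofHom eL ≫ inc :=
    ⟨affPt _ cL, affPt_appTop _ _⟩
  obtain ⟨pR, hpR⟩ : ∃ p : T ⟶ H, p.left.appTop = CommRingCat.ofHom eR ≫ inc :=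
    ⟨affPt _ cR, affPt_appTop _ _⟩
  have hval : Red.gmFn ((pL * pR) ≫ i) = inc.hom (Red.gmFn i ⊗ₜ Red.gmFn i) := by
    have hm : ∀ {U : Over base} (a b : U ⟶ H), (a * b) ≫ i = (a ≫ i) * (b ≫ i) :=
      fun a b => MonObj.mul_comp a b i
    rw [hm, GmPts.gmFn_mul, GmPts.gmFn_comp, GmPts.gmFn_comp, hpL, hpR]
    show inc.hom (Red.gmFn i ⊗ₜ 1) * inc.hom (1 ⊗ₜ Red.gmFn i) = _
    rw [← map_mul, Algebra.TensorProduct.tmul_mul_tmul, _root_.one_mul, _root_.mul_one]
  have h0 : ((minpoly K (Red.gmFn i)).eval₂ (str T).hom (Red.gmFn ((pL * pR) ≫ i))) = 0 := by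
    rw [GmPts.gmFn_comp, ← eq_of_comp_appTop_left, halg]
    show (pL * pR).left.appTop.hom (Polynomial.aeval (Red.gmFn i) _) = 0
    rw [minpoly.aeval, map_zero]
  rw [hval, str_sp, CommRingCat.hom_comp, ← Polynomial.hom_eval₂] at h0
  exact (ConcreteCategory.bijective_of_isIso inc).1 (h0.trans (map_zero _).symm)

set_option maxHeartbeats 1600000 in
/-- finite subgroups of the multiplicative group are kernels of powers -/
theorem gm_case (H : Over base) [GrpObj H] (i : H ⟶ Red.Gm base) [IsMonHom i] [Mono i] [IsFinite H.hom] :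
    ∃ φ : Red.Gm base ⟶ Red.Gm base,
      IsMonHom φ ∧ AlgGrp.IsKernel i φ ∧ Flat φ.left ∧ Surjective φ.left := by
  obtain ⟨f, hf, hfX⟩ := exists_coord_gm (K := K)
  haveI := hf
  obtain ⟨hH, hfin, hsurj⟩ := finite_mono_data (i ≫ inv f)
  letI : Algebra K Γ(H.left, ⊤) := (str H).hom.toAlgebra
  haveI : Module.Finite K Γ(H.left, ⊤) := hfin
  have halg : str H = CommRingCat.ofHom (algebraMap K Γ(H.left, ⊤)) := rfl
  have hnt : Nontrivial Γ(H.left, ⊤) :=
    (η[H].left.appTop ≫ (Scheme.ΓSpecIso (CommRingCat.of K)).hom).hom.domain_nontrivial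
  set P := minpoly K (Red.gmFn i) with hP
  set N := P.natDegree with hN
  have hN1 : Red.gmFn i ^ N = 1 :=
    @pow_eq_one_of_vanish K _ Γ(H.left, ⊤) _ _ _ hnt _ (GmPts.isUnit_gmFn i) (vanish_prod H i halg)
  have hN0 : 0 < N := minpoly.natDegree_pos (Algebra.IsIntegral.isIntegral _)
  have hPeq : P = Polynomial.X ^ N - Polynomial.C 1 := by
    refine Polynomial.eq_of_monic_of_dvd_of_natDegree_le (minpoly.monic (Algebra.IsIntegral.isIntegral _))
      (Polynomial.monic_X_pow_sub_C 1 hN0.ne') (minpoly.dvd K _ ?_) ?_ |>.symm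
    · simp [hN1]
    · rw [Polynomial.natDegree_X_pow_sub_C]
  have hX : (spFn (i ≫ inv f)).hom (algebraMap (Polynomial K) (Lz K) Polynomial.X) = Red.gmFn i := by
    rw [← hfX, Category.assoc, IsIso.inv_hom_id, Category.comp_id]
  have hhom : (spFn (i ≫ inv f)).hom.comp (algebraMap (Polynomial K) (Lz K)) =
      (Polynomial.aeval (Red.gmFn i)).toRingHom := by
    refine Polynomial.ringHom_ext (fun a => ?_) ?_
    · simpa [IsScalarTower.algebraMap_apply K (Polynomial K) (Lz K), RingHom.algebraMap_toAlgebra] using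
        ConcreteCategory.congr_hom (spFn_alg (i ≫ inv f)) a
    · simpa using hX
  have hgen : Function.Surjective (Polynomial.aeval (Red.gmFn i) : Polynomial K →ₐ[K] Γ(H.left, ⊤)) := by
    intro b
    obtain ⟨a, ha⟩ := hsurj b
    obtain ⟨⟨q, ⟨_, n, rfl⟩⟩, hq⟩ := IsLocalization.surj (Submonoid.powers (Polynomial.X : Polynomial K)) a
    refine ⟨q * Polynomial.X ^ ((N - 1) * n), ?_⟩
    have h1 := congrArg (spFn (i ≫ inv f)).hom hq
    simp only [map_mul, map_pow] at h1
    rw [hX, show (spFn (i ≫ inv f)).hom (algebraMap _ _ q) = Polynomial.aeval (Red.gmFn i) q from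
      RingHom.congr_fun hhom q, show (spFn (i ≫ inv f)).hom a = b from ha] at h1
    rw [map_mul, map_pow, Polynomial.aeval_X, ← h1, _root_.mul_assoc, ← pow_add,
      show n + (N - 1) * n = N * n by obtain ⟨m, hm⟩ := Nat.exists_eq_add_of_lt hN0; rw [hm]; simp; ring,
      pow_mul, hN1, one_pow, _root_.mul_one]
  -- the endomorphism
  set φ : Red.Gm base ⟶ Red.Gm base :=
    GmPts.ptOfUnit (GmPts.unitOfPt (𝟙 (Red.Gm base)) ^ N) with hφ
  have hφu : ∀ (T : Over base) (x : T ⟶ Red.Gm base),
      GmPts.unitOfPt (x ≫ φ) = GmPts.unitOfPt x ^ N := by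
    intro T x
    rw [GmPts.unitOfPt_comp, hφ, GmPts.unitOfPt_ptOfUnit, map_pow, ← GmPts.unitOfPt_comp, Category.comp_id]
  have hφv : ∀ (T : Over base) (x : T ⟶ Red.Gm base), Red.gmFn (x ≫ φ) = Red.gmFn x ^ N := fun T x =>
    (congrArg Units.val (hφu T x)).trans (Units.val_pow_eq_pow_val _ _)
  refine ⟨φ, ?_, ?_, ?_⟩
  · have hone : (1 : 𝟙_ (Over base) ⟶ Red.Gm base) = η := by
      rw [Hom.one_def, toUnit_unit]; exact Category.id_comp _
    have hmul : (fst (Red.Gm base) (Red.Gm base) * snd (Red.Gm base) (Red.Gm base)) = μ := by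
      rw [Hom.mul_def, lift_fst_snd, Category.id_comp]
    refine { one_hom := ?_, mul_hom := ?_ }
    · rw [← hone]
      apply GmPts.gmFn_injective
      simp only [hφv, GmPts.gmFn_one, one_pow]
    · rw [← hmul]
      apply GmPts.gmFn_injective
      simp only
      rw [hφv, GmPts.gmFn_mul, mul_pow, MonObj.comp_mul, tensorHom_fst, tensorHom_snd, GmPts.gmFn_mul,
        hφv, hφv]
  · have hker : ∀ (T : Over base) (x : T ⟶ Red.Gm base),
        x ≫ φ = toUnit T ≫ η ↔ P.eval₂ (str T).hom (Red.gmFn x) = 0 := by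
      intro T x
      rw [← GmPts.gmFn_injective.eq_iff]
      simp only
      rw [hφv, ← Hom.one_def, GmPts.gmFn_one, hPeq, Polynomial.eval₂_sub, Polynomial.eval₂_pow,
        Polynomial.eval₂_X, Polynomial.eval₂_C, map_one, sub_eq_zero]
    have w : i ≫ φ = toUnit H ≫ η := (hker H i).2 (by
      show Polynomial.aeval (Red.gmFn i) P = 0
      rw [hP, minpoly.aeval])
    have hlift : ∀ (T : Over base) (x : T ⟶ Red.Gm base), x ≫ φ = toUnit T ≫ η →
        ∃ y : T ⟶ H, y ≫ i = x := by
      intro T x hx
      have hz := (hker T x).1 hx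
      have hk : RingHom.ker (Polynomial.aeval (Red.gmFn i)).toRingHom ≤
          RingHom.ker (Polynomial.eval₂RingHom (str T).hom (Red.gmFn x)) := by
        intro q hq
        obtain ⟨r, rfl⟩ := minpoly.dvd K (Red.gmFn i) (RingHom.mem_ker.1 hq)
        rw [RingHom.mem_ker, map_mul]
        simp only [Polynomial.coe_eval₂RingHom, ← hP, hz, zero_mul]
      let e : Polynomial K →+* Γ(T.left, ⊤) := Polynomial.eval₂RingHom (str T).hom (Red.gmFn x)
      set L : Γ(H.left, ⊤) →+* Γ(T.left, ⊤) := RingHom.liftOfSurjective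
        (Polynomial.aeval (Red.gmFn i) : Polynomial K →ₐ[K] Γ(H.left, ⊤)).toRingHom hgen
        (⟨e, hk⟩ : { g : Polynomial K →+* Γ(T.left, ⊤) //
          RingHom.ker (Polynomial.aeval (Red.gmFn i) : Polynomial K →ₐ[K] Γ(H.left, ⊤)).toRingHom ≤
            RingHom.ker g })
      have hL : ∀ q, L (Polynomial.aeval (Red.gmFn i) q) = q.eval₂ (str T).hom (Red.gmFn x) := fun q =>
        RingHom.liftOfRightInverse_comp_apply _ _ _ _ q
      have hc : str H ≫ CommRingCat.ofHom L = str T := by
        ext a
        show L ((str H).hom a) = _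
        have := hL (Polynomial.C a)
        rw [Polynomial.aeval_C, Polynomial.eval₂_C] at this
        exact this
      refine ⟨affPt _ hc, GmPts.gmFn_injective ?_⟩
      simp only
      rw [GmPts.gmFn_comp, affPt_appTop]
      have := hL Polynomial.X
      rw [Polynomial.aeval_X, Polynomial.eval₂_X] at this
      exact this
    refine IsPullback.of_isLimit' ⟨w⟩ (PullbackCone.IsLimit.mk w
      (fun s => (hlift s.pt s.fst (by rw [s.condition]; congr 1; exact toUnit_unique _ _)).choose)
      (fun s => (hlift s.pt s.fst (by rw [s.condition]; congr 1; exact toUnit_unique _ _)).choose_spec)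
      (fun s => toUnit_unique _ _) (fun s m h1 _ => (cancel_mono i).1 (h1.trans
        (hlift s.pt s.fst (by rw [s.condition]; congr 1; exact toUnit_unique _ _)).choose_spec.symm)))
  · -- flat and surjective
    set σ : Polynomial K →+* Polynomial K :=
      (Polynomial.aeval (Polynomial.X ^ N : Polynomial K) : Polynomial K →ₐ[K] Polynomial K).toRingHom with hσ
    have hσinj : Function.Injective σ := fun a b hab => Polynomial.expand_injective hN0 (by
      simpa [σ, Polynomial.expand_eq_comp_X_pow, Polynomial.comp, Polynomial.aeval_def] using hab)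
    have hXu : IsUnit ((algebraMap (Polynomial K) (Lz K)).comp σ Polynomial.X) := by
      simp only [σ, RingHom.comp_apply, AlgHom.toRingHom_eq_coe, RingHom.coe_coe, Polynomial.aeval_X, map_pow]
      exact (IsLocalization.Away.algebraMap_isUnit _).pow N
    set ρ : Lz K →+* Lz K := IsLocalization.Away.lift (Polynomial.X : Polynomial K) hXu with hρ
    have hρe : ρ.comp (algebraMap (Polynomial K) (Lz K)) = (algebraMap (Polynomial K) (Lz K)).comp σ :=
      IsLocalization.Away.lift_comp _ hXu
    have hρX : ρ (algebraMap (Polynomial K) (Lz K) Polynomial.X) =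
        (algebraMap (Polynomial K) (Lz K) Polynomial.X) ^ N := by
      simpa [σ] using RingHom.congr_fun hρe Polynomial.X
    have hc : CommRingCat.ofHom (algebraMap K (Lz K)) ≫
        (CommRingCat.ofHom ρ ≫ (Scheme.ΓSpecIso (CommRingCat.of (Lz K))).inv) = str (sp K (Lz K)) := by
      rw [str_sp, ← Category.assoc]; congr 1; ext a
      show ρ (algebraMap K (Lz K) a) = algebraMap K (Lz K) a
      rw [IsScalarTower.algebraMap_apply K (Polynomial K) (Lz K)]
      simpa [σ] using RingHom.congr_fun hρe (algebraMap K (Polynomial K) a)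
    set ψ := spPt (A := Lz K) (T := sp K (Lz K)) _ hc with hψ
    have hsq : f ≫ φ = ψ ≫ f := by
      apply GmPts.gmFn_injective
      simp only
      rw [hφv, hfX, hψ, spFn_spPt, show Red.gmFn f =
        (spFn (𝟙 (sp K (Lz K)))).hom (algebraMap (Polynomial K) (Lz K) Polynomial.X) by
        rw [← hfX, Category.id_comp], show (spFn (𝟙 (sp K (Lz K)))) =
          (Scheme.ΓSpecIso (CommRingCat.of (Lz K))).inv by simp [spFn], ← map_pow, ← hρX]
      rfl
    have hψl : ψ.left = Spec.map (CommRingCat.ofHom ρ) := by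
      apply ext_of_isAffine
      have := spFn_spPt (A := Lz K) (T := sp K (Lz K)) _ hc
      rw [← hψ, spFn, Scheme.ΓSpecIso_inv_naturality] at this
      exact (cancel_epi _).1 this
    have hinj : Function.Injective ρ := by
      rw [injective_iff_map_eq_zero]
      intro a ha
      obtain ⟨⟨q, s⟩, hq⟩ := IsLocalization.surj (Submonoid.powers (Polynomial.X : Polynomial K)) a
      have h1 := congrArg ρ hq
      rw [map_mul, ha, zero_mul] at h1
      have h2 : algebraMap (Polynomial K) (Lz K) (σ q) = algebraMap _ _ (σ 0) := by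
        rw [map_zero, map_zero]
        exact ((RingHom.congr_fun hρe q).symm).trans h1.symm
      have h3 := hσinj (IsLocalization.injective (Lz K)
        (powers_le_nonZeroDivisors_of_noZeroDivisors Polynomial.X_ne_zero) h2)
      simp only at hq
      rw [h3, map_zero] at hq
      exact (mul_eq_zero.1 hq).resolve_right
        (IsLocalization.map_units (Lz K) s).ne_zero
    have hint : ρ.IsIntegral := by
      have hσint : σ.IsIntegral := isIntegral_compRight (Polynomial.monic_X_pow N) (by simpa using hN0)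
      have halgm : ∀ q, ρ.IsIntegralElem (algebraMap (Polynomial K) (Lz K) q) := by
        intro q
        obtain ⟨p, hpm, hp⟩ := hσint q
        refine ⟨p.map (algebraMap (Polynomial K) (Lz K)), hpm.map _, ?_⟩
        rw [Polynomial.eval₂_map, hρe, ← Polynomial.hom_eval₂, hp, map_zero]
      have hinvS : ρ.IsIntegralElem (IsLocalization.Away.invSelf (S := Lz K) (Polynomial.X : Polynomial K)) := by
        refine ⟨Polynomial.X ^ N - Polynomial.C (IsLocalization.Away.invSelf (Polynomial.X : Polynomial K)),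
          Polynomial.monic_X_pow_sub_C _ hN0.ne', ?_⟩
        have h1 := congrArg ρ (IsLocalization.Away.mul_invSelf (S := Lz K) (Polynomial.X : Polynomial K))
        rw [map_mul, map_one, hρX] at h1
        have h2 := congrArg (· ^ N) (IsLocalization.Away.mul_invSelf (S := Lz K) (Polynomial.X : Polynomial K))
        simp only [mul_pow, one_pow] at h2
        rw [Polynomial.eval₂_sub, Polynomial.eval₂_pow, Polynomial.eval₂_X, Polynomial.eval₂_C, sub_eq_zero]
        exact ((IsLocalization.Away.algebraMap_isUnit (S := Lz K) (Polynomial.X : Polynomial K)).pow N).mul_left_cancel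
          (h2.trans h1.symm)
      intro a
      obtain ⟨⟨q, ⟨_, n, rfl⟩⟩, hq⟩ := IsLocalization.surj (Submonoid.powers (Polynomial.X : Polynomial K)) a
      have ha : a = algebraMap (Polynomial K) (Lz K) q *
          (IsLocalization.Away.invSelf (S := Lz K) (Polynomial.X : Polynomial K)) ^ n := by
        simp only [map_pow] at hq
        rw [← hq, _root_.mul_assoc, ← mul_pow, IsLocalization.Away.mul_invSelf, one_pow, _root_.mul_one]
      rw [ha]
      refine RingHom.IsIntegralElem.mul ρ (halgm q) ?_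
      clear * - hinvS
      induction n with
      | zero => rw [pow_zero]; exact ρ.isIntegralElem_one
      | succ n ih => rw [pow_succ]; exact RingHom.IsIntegralElem.mul ρ ih hinvS
    have hlflat : ρ.Flat := by
      refine flat_of_flat_comp (Submonoid.powers (Polynomial.X : Polynomial K)) ρ ?_
      rw [hρe]
      exact RingHom.Flat.comp (flat_of_injective σ hσinj)
        (by rw [RingHom.flat_algebraMap_iff]; exact IsLocalization.flat _ (Submonoid.powers (Polynomial.X : Polynomial K)))
    haveI : Flat ψ.left := by rw [hψl]; exact (HasRingHomProperty.Spec_iff (P := @Flat)).2 hlflat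
    haveI : Surjective ψ.left := by
      rw [hψl]; exact ⟨(hint.comap_surjective hinj)⟩
    have hl : φ.left = (inv f).left ≫ ψ.left ≫ f.left := by
      rw [← Over.comp_left, ← Over.comp_left, ← hsq, IsIso.inv_hom_id_assoc]
    haveI : IsIso f.left := inferInstanceAs (IsIso ((Over.forget _).map f))
    haveI : IsIso (inv f).left := inferInstanceAs (IsIso ((Over.forget _).map (inv f)))
    rw [hl]
    exact ⟨inferInstance, inferInstance⟩

end BddFin29
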